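import Groth.Agent.S2730
import Groth.Agent.CplFib6.PSRegular
import Groth.Agent.FlatLoc6.GeomComp
import Groth.Agent.UnibEtale.Basic
import Mathlib.RingTheory.Smooth.NoetherianDescent

/-!
Smooth algebras over geometrically unibranch local rings, without Noetherian hypotheses.
-/

set_option autoImplicit false
set_option linter.style.haveILetI false

noncomputable section

universe u

open TensorProduct

namespace Groth.Agent.Calg46.SmoothBranch

theorem domain_geomUnibranch (R S B : Type u) [CommRing R] [CommRing S] [Algebra R S] [Algebra.Smooth R S]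
    [CommRing B] [IsLocalRing B] [Algebra R B] (hB : CAlg2.IsGeomUnibranch B)
    (n : Ideal (B ⊗[R] S)) [n.IsPrime] (hn : n.comap (algebraMap B (B ⊗[R] S)) = IsLocalRing.maximalIdeal B) :
    CAlg2.IsGeomUnibranch (Localization.AtPrime n) ∧ (IsDomain B → IsDomain (Localization.AtPrime n)) := by
  obtain ⟨R₀, S₀, _, _, hfg, hsm, ⟨e⟩⟩ := Algebra.Smooth.exists_subalgebra_fg ℤ R S
  haveI := hsm
  haveI : Algebra.FiniteType ℤ R₀ := (Subalgebra.fg_iff_finiteType R₀).1 hfg
  haveI : IsNoetherianRing R₀ := Algebra.FiniteType.isNoetherianRing ℤ R₀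
  haveI : IsNoetherianRing S₀ := Algebra.FiniteType.isNoetherianRing R₀ S₀
  let ε : B ⊗[R] S ≃ₐ[B] B ⊗[R₀] S₀ :=
    (Algebra.TensorProduct.congr (AlgEquiv.refl : B ≃ₐ[B] B) e).trans
      (Algebra.TensorProduct.cancelBaseChange R₀ R B B S₀)
  let n₀ : Ideal (B ⊗[R₀] S₀) := n.comap ε.symm.toRingEquiv.toRingHom
  haveI : n₀.IsPrime := Ideal.IsPrime.comap _
  have hn₀ : n₀.comap (algebraMap B (B ⊗[R₀] S₀)) = IsLocalRing.maximalIdeal B := by
    rw [← hn]
    ext b
    show ε.symm (algebraMap B _ b) ∈ n ↔ algebraMap B _ b ∈ n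
    rw [ε.symm.commutes]
  obtain ⟨hu, hd⟩ := S2730.result R₀ S₀
    (FlatLoc6.isNormalHom_of_isRegularHom R₀ S₀ (CplFib6.isRegularHom_of_smooth R₀ S₀)) B hB n₀ hn₀
  let θ : Localization.AtPrime n₀ ≃+* Localization.AtPrime n :=
    IsLocalization.ringEquivOfRingEquiv (M := n₀.primeCompl) (T := n.primeCompl) _ _ ε.symm.toRingEquiv (by
      ext x
      refine ⟨fun ⟨y, hy, hxy⟩ => hxy ▸ hy, fun hx => ⟨ε x, fun h => hx ?_, ε.symm_apply_apply x⟩⟩
      have h' : ε.symm (ε x) ∈ n := h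
      rwa [ε.symm_apply_apply] at h')
  exact ⟨UnibEtale.isGeomUnibranch_of_ringEquiv θ hu, fun hB' => haveI := hd hB'; θ.symm.toMulEquiv.isDomain _⟩

end Groth.Agent.Calg46.SmoothBranch
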