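import Groth.Agent.Calg46.SmoothBranch.Base
import Groth.Agent.S2750
import Groth.Agent.HensEt88.SmoothUnibranch
import Groth.Agent.HensEt88.StrictQuotient
import Groth.Agent.AnLocal.Henselian
import Groth.Agent.Hensel.TensorHenz
import Groth.Agent.Hensel.TensorHenzFinite

/-!
Primes of a strict henselization of a smooth algebra generated by primes of the base.
-/

set_option autoImplicit false
set_option linter.style.haveILetI false

noncomputable section

universe u

open TensorProduct IsLocalRing Groth.Agent.Hensel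

namespace Groth.Agent.Calg46.SmoothBranch

theorem exists_mk'_preimage {T T' : Type u} [CommRing T] [CommRing T'] (π : T →+* T') (hπ : Function.Surjective π)
    (n : Ideal T) [n.IsPrime] (n' : Ideal T') [n'.IsPrime] (h : n = n'.comap π) :
    Function.Surjective (Localization.localRingHom n n' π h) ∧
      RingHom.ker (Localization.localRingHom n n' π h) =
        (RingHom.ker π).map (algebraMap T (Localization.AtPrime n)) := by
  have hmem : ∀ t, t ∈ n ↔ π t ∈ n' := fun t => by rw [h]; rfl
  refine ⟨fun z => ?_, le_antisymm (fun z hz => ?_) (Ideal.map_le_iff_le_comap.2 fun t ht => ?_)⟩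
  · obtain ⟨a, s, rfl⟩ := IsLocalization.exists_mk'_eq n'.primeCompl z
    obtain ⟨a, rfl⟩ := hπ a
    obtain ⟨s', hs⟩ := hπ s
    refine ⟨IsLocalization.mk' _ a (⟨s', fun hh => s.2 (hs ▸ (hmem s').1 hh)⟩ : n.primeCompl), ?_⟩
    rw [Localization.localRingHom_mk']
    exact congrArg _ (Subtype.ext hs)
  · obtain ⟨a, s, rfl⟩ := IsLocalization.exists_mk'_eq n.primeCompl z
    rw [RingHom.mem_ker, Localization.localRingHom_mk', IsLocalization.mk'_eq_zero_iff] at hz
    obtain ⟨u, hu⟩ := hz
    obtain ⟨u', hu'⟩ := hπ u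
    have hu'n : u' ∈ n.primeCompl := fun hh => u.2 (hu' ▸ (hmem u').1 hh)
    have hk : u' * a ∈ RingHom.ker π := by
      rw [RingHom.mem_ker, map_mul, hu']
      exact hu
    rw [← IsLocalization.mk'_cancel a s ⟨u', hu'n⟩, mul_comm a, IsLocalization.mk'_eq_mul_mk'_one]
    exact Ideal.mul_mem_right _ _ (Ideal.mem_map_of_mem _ hk)
  · rw [Ideal.mem_comap, RingHom.mem_ker, Localization.localRingHom_to_map, RingHom.mem_ker.1 ht, map_zero]

theorem exists_comp_eq {A B C : Type u} [CommRing A] [CommRing B] [CommRing C] (f : A →+* B)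
    (hf : Function.Surjective f) (g : A →+* C) (h : RingHom.ker f ≤ RingHom.ker g) :
    ∃ k : B →+* C, k.comp f = g :=
  ⟨f.liftOfSurjective hf ⟨g, h⟩, RingHom.liftOfRightInverse_comp _ _ _ _⟩

theorem isPrime_map_ker (A B E : Type u) [CommRing A] [IsLocalRing A] [CommRing B] [IsLocalRing B] [IsDomain B]
    [CommRing E] [IsLocalRing E] [Algebra A E]
    [IsLocalHom (algebraMap A E)] [_root_.Hensel.IsStrictHenselization A E]
    (πl : A →+* B) (hπl : Function.Surjective πl) (hu : CAlg2.IsGeomUnibranch B) :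
    ((RingHom.ker πl).map (algebraMap A E)).IsPrime := by
  obtain ⟨PE, hPE⟩ : ∃ PE, PE = (RingHom.ker πl).map (algebraMap A E) := ⟨_, rfl⟩
  rw [← hPE]
  have hιloc : PE ≤ maximalIdeal E := by
    have h04 := (local_hom_TFAE (algebraMap (A) E)).out 0 4
    have hloc := h04.1 inferInstance
    rw [hPE, Ideal.map_le_iff_le_comap, hloc]
    exact le_maximalIdeal (RingHom.ker_ne_top πl)
  haveI : Nontrivial (E ⧸ PE) :=
    Ideal.Quotient.nontrivial_iff.2 fun h => (maximalIdeal.isMaximal E).ne_top (top_le_iff.1 (h ▸ hιloc))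
  haveI : IsLocalRing (E ⧸ PE) := IsLocalRing.of_surjective' (Ideal.Quotient.mk PE) Ideal.Quotient.mk_surjective
  let toU : A →+* E ⧸ PE :=
    (Ideal.Quotient.mk PE).comp (algebraMap (A) E)
  have hle : RingHom.ker πl ≤ RingHom.ker toU := fun x hx => by
    rw [RingHom.mem_ker]
    exact Ideal.Quotient.eq_zero_iff_mem.2 (hPE ▸ Ideal.mem_map_of_mem _ hx)
  obtain ⟨g, hg⟩ := exists_comp_eq πl hπl toU hle
  letI : Algebra (B) (E ⧸ PE) := g.toAlgebra
  have hcomm : (algebraMap (B) (E ⧸ PE)).comp πl = toU := hg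
  haveI : IsLocalHom toU := by
    haveI : IsLocalHom (Ideal.Quotient.mk PE) := Ideal.Quotient.mk_surjective.isLocalHom _
    exact RingHom.isLocalHom_comp _ _
  haveI : IsLocalHom (algebraMap (B) (E ⧸ PE)) := ⟨fun x hx => by
    obtain ⟨y, rfl⟩ := hπl x
    rw [← RingHom.comp_apply, hcomm] at hx
    exact (IsLocalHom.map_nonunit y hx).map πl⟩
  haveI := HensEt88.isStrictHenselization_of_surjective (A) E (B) (E ⧸ PE)
    πl (Ideal.Quotient.mk PE) hπl Ideal.Quotient.mk_surjective hcomm.symm (by rw [Ideal.mk_ker, hPE])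
  haveI : IsDomain (E ⧸ PE) := (S2750.result (B) (E ⧸ PE)).1 ⟨inferInstance, hu⟩
  exact (Ideal.Quotient.isDomain_iff_prime PE).1 inferInstance

variable (R S : Type u) [CommRing R] [CommRing S] [Algebra R S] [Algebra.Smooth R S]

/-- The strict henselization of `(Ash ⊗ S)_n`: extensions of primes of `Ash` are prime. -/
theorem isPrime_map_of_strictlyHenselian (Ash : Type u) [CommRing Ash] [HenselianLocalRing Ash]
    [IsSepClosed (ResidueField Ash)] [Algebra R Ash]
    (n : Ideal (Ash ⊗[R] S)) [n.IsPrime] (hn : n.comap (algebraMap Ash (Ash ⊗[R] S)) = maximalIdeal Ash)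
    (E : Type u) [CommRing E] [IsLocalRing E] [Algebra (Localization.AtPrime n) E]
    [IsLocalHom (algebraMap (Localization.AtPrime n) E)] [_root_.Hensel.IsStrictHenselization (Localization.AtPrime n) E]
    (ι : Ash →+* E)
    (hι : ∀ a, ι a = algebraMap (Localization.AtPrime n) E
      (algebraMap (Ash ⊗[R] S) (Localization.AtPrime n) (algebraMap Ash (Ash ⊗[R] S) a)))
    (P : Ideal Ash) [hP : P.IsPrime] :
    (P.map ι).IsPrime ∧ (P.map ι).comap ι = P := by
  haveI : IsLocalRing (Ash ⧸ P) := IsLocalRing.of_surjective' (Ideal.Quotient.mk P) Ideal.Quotient.mk_surjective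
  haveI hHQ : HenselianLocalRing (Ash ⧸ P) :=
    AnLocal.henselianLocalRing_of_surjective' (Ideal.Quotient.mk P) Ideal.Quotient.mk_surjective
  haveI : IsLocalHom (Ideal.Quotient.mk P) := Ideal.Quotient.mk_surjective.isLocalHom _
  haveI : IsSepClosed (ResidueField (Ash ⧸ P)) := Hensel.isSepClosed_of_ringEquiv
    (RingEquiv.ofBijective (ResidueField.map (Ideal.Quotient.mk P)) ⟨RingHom.injective _, fun y => by
      obtain ⟨b, rfl⟩ := residue_surjective y
      obtain ⟨a, rfl⟩ := Ideal.Quotient.mk_surjective b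
      exact ⟨residue Ash a, rfl⟩⟩)
  have hGU : CAlg2.IsGeomUnibranch (Ash ⧸ P) := HensEt88.isGeomUnibranch_of_strictlyHenselian _
  let π : Ash ⊗[R] S →ₐ[R] (Ash ⧸ P) ⊗[R] S := Algebra.TensorProduct.map (Ideal.Quotient.mkₐ R P) (AlgHom.id R S)
  have hπ : Function.Surjective π :=
    Algebra.TensorProduct.map_surjective _ _ Ideal.Quotient.mk_surjective Function.surjective_id
  have hkerπ : RingHom.ker π = P.map (algebraMap Ash (Ash ⊗[R] S)) := by
    have h := Algebra.TensorProduct.rTensor_ker (R := R) (C := S) (Ideal.Quotient.mkₐ R P) (Ideal.Quotient.mkₐ_surjective R P)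
    rw [show RingHom.ker (Ideal.Quotient.mkₐ R P) = P from Ideal.Quotient.mkₐ_ker R P] at h
    exact h
  have hPn : RingHom.ker π ≤ n := by
    rw [hkerπ, Ideal.map_le_iff_le_comap, hn]
    exact le_maximalIdeal hP.ne_top
  let n' : Ideal ((Ash ⧸ P) ⊗[R] S) := n.map π.toRingHom
  haveI : n'.IsPrime := Ideal.map_isPrime_of_surjective hπ hPn
  have hn' : n = n'.comap π.toRingHom := by
    show n = Ideal.comap π.toRingHom (Ideal.map π.toRingHom n)
    rw [Ideal.comap_map_of_surjective' π.toRingHom hπ]
    exact (sup_eq_left.2 hPn).symm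
  have hn'B : n'.comap (algebraMap (Ash ⧸ P) ((Ash ⧸ P) ⊗[R] S)) = maximalIdeal (Ash ⧸ P) := by
    have hc : π.toRingHom.comp (algebraMap Ash (Ash ⊗[R] S)) =
        (algebraMap (Ash ⧸ P) ((Ash ⧸ P) ⊗[R] S)).comp (Ideal.Quotient.mk P) := RingHom.ext fun a => by
      simp [π, Algebra.TensorProduct.algebraMap_apply]
    apply Ideal.comap_injective_of_surjective _ (Ideal.Quotient.mk_surjective (I := P))
    rw [Ideal.comap_comap, ← hc, ← Ideal.comap_comap, ← hn', hn]
    have h04 := (local_hom_TFAE (Ideal.Quotient.mk P)).out 0 4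
    exact (h04.1 inferInstance).symm
  obtain ⟨hu, hd⟩ := domain_geomUnibranch R S (Ash ⧸ P) hGU n' hn'B
  haveI := hd inferInstance
  obtain ⟨πl, hπl, hkerl⟩ : ∃ πl : Localization.AtPrime n →+* Localization.AtPrime n', Function.Surjective πl ∧
      RingHom.ker πl = (RingHom.ker π.toRingHom).map (algebraMap _ (Localization.AtPrime n)) :=
    ⟨_, exists_mk'_preimage π.toRingHom hπ n n' hn'⟩
  let PE : Ideal E := P.map ι
  have hPE : PE = (RingHom.ker πl).map (algebraMap (Localization.AtPrime n) E) := by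
    rw [hkerl, show RingHom.ker π.toRingHom = _ from hkerπ, Ideal.map_map, Ideal.map_map]
    exact congrArg (fun f => P.map f) (RingHom.ext hι)
  have hprime : PE.IsPrime := by
    rw [hPE]
    have h1 := @isPrime_map_ker (Localization.AtPrime n) (Localization.AtPrime n') E
    have h2 := h1 πl
    have h3 := h2 hπl hu
    exact h3
  refine ⟨hprime, ?_⟩
  letI algι : Algebra Ash E := ι.toAlgebra
  haveI : IsScalarTower Ash (Localization.AtPrime n) E := IsScalarTower.of_algebraMap_eq fun a => by
    show ι a = _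
    rw [hι, ← IsScalarTower.algebraMap_apply Ash (Ash ⊗[R] S) (Localization.AtPrime n)]
  haveI : Module.Flat (Ash ⊗[R] S) (Localization.AtPrime n) := IsLocalization.flat _ n.primeCompl
  haveI : Module.Flat Ash (Localization.AtPrime n) := Module.Flat.trans Ash (Ash ⊗[R] S) (Localization.AtPrime n)
  haveI := faithfullyFlat_of_isStrictHenselization (Localization.AtPrime n) E
  haveI : Module.Flat Ash E := Module.Flat.trans Ash (Localization.AtPrime n) E
  have h04 := (local_hom_TFAE (algebraMap (Localization.AtPrime n) E)).out 0 4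
  have hloc := h04.1 inferInstance
  have h40 := (local_hom_TFAE (algebraMap Ash E)).out 4 0
  haveI : IsLocalHom (algebraMap Ash E) := h40.1 (by
    rw [IsScalarTower.algebraMap_eq Ash (Localization.AtPrime n) E, ← Ideal.comap_comap, hloc,
      IsScalarTower.algebraMap_eq Ash (Ash ⊗[R] S) (Localization.AtPrime n), ← Ideal.comap_comap,
      ← hn]
    exact congrArg _ (IsLocalization.AtPrime.under_maximalIdeal (Localization.AtPrime n) n))
  haveI : Module.FaithfullyFlat Ash E := Module.FaithfullyFlat.of_flat_of_isLocalHom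
  exact Ideal.comap_map_eq_self_of_faithfullyFlat (B := E) P

/-- The same for the strict henselization of `S_q`. -/
theorem isPrime_map (p : Ideal R) [p.IsPrime] (q : Ideal S) [q.IsPrime] [q.LiesOver p]
    (Ash : Type u) [CommRing Ash] [IsLocalRing Ash] [Algebra (Localization.AtPrime p) Ash]
    [IsLocalHom (algebraMap (Localization.AtPrime p) Ash)] [Algebra R Ash] [IsScalarTower R (Localization.AtPrime p) Ash]
    (Bsh : Type u) [CommRing Bsh] [IsLocalRing Bsh] [Algebra (Localization.AtPrime q) Bsh]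
    [IsLocalHom (algebraMap (Localization.AtPrime q) Bsh)] [Algebra S Bsh] [IsScalarTower S (Localization.AtPrime q) Bsh]
    [Algebra R Bsh] [IsScalarTower R S Bsh] [Algebra Ash Bsh] [IsScalarTower R Ash Bsh]
    [_root_.Hensel.IsStrictHenselization (Localization.AtPrime p) Ash]
    [_root_.Hensel.IsStrictHenselization (Localization.AtPrime q) Bsh]
    (P : Ideal Ash) [P.IsPrime] :
    (P.map (algebraMap Ash Bsh)).IsPrime ∧ (P.map (algebraMap Ash Bsh)).comap (algebraMap Ash Bsh) = P := by
  haveI : HenselianLocalRing Ash := _root_.Hensel.IsStrictHenselization.henselian (R := Localization.AtPrime p)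
  haveI : IsSepClosed (ResidueField Ash) :=
    (_root_.Hensel.IsStrictHenselization.isSepClosure (R := Localization.AtPrime p) (S := Ash)).sep_closed
  haveI := isLocalHom_Rh_Sh R S p q Ash Bsh (map_maximalIdeal_of_isStrictHenselization _ Ash)
  have hlo := liesOver_tensorPrime R S p q Ash Bsh
  let E := StrictHenz (Localization.AtPrime (tensorPrime R S Ash Bsh))
  haveI : IsLocalHom (algebraMap (Localization.AtPrime (tensorPrime R S Ash Bsh)) E) := by
    unfold E StrictHenz; exact isLocalHom_henz
  haveI : _root_.Hensel.IsStrictHenselization (Localization.AtPrime (tensorPrime R S Ash Bsh)) E :=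
    isStrictHenselization_strictHenz _
  obtain ⟨e, he⟩ := strict_tensor R S p q Ash Bsh E
  let ι : Ash →+* E := (toE R S Ash Bsh E).comp (algebraMap Ash (Ash ⊗[R] S))
  obtain ⟨h1, h2⟩ := isPrime_map_of_strictlyHenselian R S Ash (tensorPrime R S Ash Bsh) hlo.over.symm E ι
    (fun _ => rfl) P
  have hc : e.toRingHom.comp ι = algebraMap Ash Bsh := RingHom.ext fun a => by
    show e (toE R S Ash Bsh E (algebraMap Ash _ a)) = _
    rw [he, Algebra.TensorProduct.algebraMap_apply, Algebra.TensorProduct.lift_tmul, map_one, mul_one]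
    rfl
  rw [← hc, ← Ideal.map_map]
  haveI := h1
  refine ⟨Ideal.map_isPrime_of_equiv e, ?_⟩
  rw [← Ideal.comap_comap]
  show ((((P.map ι).map e.toRingHom).comap e.toRingHom).comap ι) = P
  rw [Ideal.comap_map_of_bijective e.toRingHom e.bijective, h2]

end Groth.Agent.Calg46.SmoothBranch
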