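import Groth.Agent.Calg46.SmoothBranch.Core

/-!
Geometric branches are preserved by smooth ring maps.
-/

set_option autoImplicit false
set_option linter.style.haveILetI false

noncomputable section

universe u

open IsLocalRing Groth.Agent.Hensel

namespace Groth.Agent.Calg46.SmoothBranch

/-- If primes extend to primes contracting back, extension is a bijection on minimal primes. -/
theorem encard_minimalPrimes_eq {A B : Type u} [CommRing A] [CommRing B] (f : A →+* B)
    (h : ∀ P : Ideal A, P.IsPrime → (P.map f).IsPrime ∧ (P.map f).comap f = P) :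
    (minimalPrimes A).encard = (minimalPrimes B).encard := by
  have hto : ∀ P ∈ minimalPrimes A, P.map f ∈ minimalPrimes B := fun P hP => by
    obtain ⟨h1, h2⟩ := h P hP.1.1
    refine ⟨⟨h1, bot_le⟩, fun Q hQ hle => ?_⟩
    have h3 : P ≤ Q.comap f := hP.2 ⟨hQ.1.comap f, bot_le⟩ ((Ideal.comap_mono hle).trans h2.le)
    exact Ideal.map_le_iff_le_comap.2 h3
  have himg : minimalPrimes B = (Ideal.map f) '' minimalPrimes A := by
    refine Set.Subset.antisymm (fun Q hQ => ?_) (Set.image_subset_iff.2 hto)
    haveI := hQ.1.1
    obtain ⟨P, hP, hle⟩ := Ideal.exists_minimalPrimes_le (bot_le : (⊥ : Ideal A) ≤ Q.comap f)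
    refine ⟨P, hP, le_antisymm (Ideal.map_le_iff_le_comap.2 hle) ?_⟩
    exact hQ.2 ⟨(h P hP.1.1).1, bot_le⟩ (Ideal.map_le_iff_le_comap.2 hle)
  rw [himg, Set.InjOn.encard_image fun P hP Q hQ he => by rw [← (h P hP.1.1).2, ← (h Q hQ.1.1).2, he]]

/-- Strict henselizations along a smooth map have equally many minimal primes. -/
theorem encard_minimalPrimes_strict (R S : Type u) [CommRing R] [CommRing S] [Algebra R S] [Algebra.Smooth R S]
    (p : Ideal R) [p.IsPrime] (q : Ideal S) [q.IsPrime] [q.LiesOver p]
    (Ash : Type u) [CommRing Ash] [IsLocalRing Ash] [Algebra (Localization.AtPrime p) Ash]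
    [IsLocalHom (algebraMap (Localization.AtPrime p) Ash)]
    [_root_.Hensel.IsStrictHenselization (Localization.AtPrime p) Ash]
    (Bsh : Type u) [CommRing Bsh] [IsLocalRing Bsh] [Algebra (Localization.AtPrime q) Bsh]
    [IsLocalHom (algebraMap (Localization.AtPrime q) Bsh)]
    [_root_.Hensel.IsStrictHenselization (Localization.AtPrime q) Bsh] :
    (minimalPrimes Ash).encard = (minimalPrimes Bsh).encard := by
  letI : Algebra R Ash := ((algebraMap (Localization.AtPrime p) Ash).comp (algebraMap R _)).toAlgebra
  haveI : IsScalarTower R (Localization.AtPrime p) Ash := IsScalarTower.of_algebraMap_eq fun _ => rfl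
  letI : Algebra S Bsh := ((algebraMap (Localization.AtPrime q) Bsh).comp (algebraMap S _)).toAlgebra
  haveI : IsScalarTower S (Localization.AtPrime q) Bsh := IsScalarTower.of_algebraMap_eq fun _ => rfl
  letI : Algebra R Bsh := ((algebraMap S Bsh).comp (algebraMap R S)).toAlgebra
  haveI : IsScalarTower R S Bsh := IsScalarTower.of_algebraMap_eq fun _ => rfl
  haveI : HenselianLocalRing Bsh := _root_.Hensel.IsStrictHenselization.henselian (R := Localization.AtPrime q)
  haveI : IsSepClosed (ResidueField Bsh) :=
    (_root_.Hensel.IsStrictHenselization.isSepClosure (R := Localization.AtPrime q) (S := Bsh)).sep_closed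
  haveI : IsSepClosure (ResidueField (Localization.AtPrime p)) (ResidueField Ash) :=
    _root_.Hensel.IsStrictHenselization.isSepClosure (R := Localization.AtPrime p) (S := Ash)
  have hf : (maximalIdeal Bsh).comap (algebraMap R Bsh) = p := by
    rw [IsScalarTower.algebraMap_eq R S Bsh, ← Ideal.comap_comap, comap_algebraMap_atPrime S q Bsh]
    exact (q.over_def p).symm
  obtain ⟨F, hF, hloc⟩ := exists_localization_lift (algebraMap R Bsh) hf
  letI : Algebra (ResidueField (Localization.AtPrime p)) (ResidueField Bsh) := (ResidueField.map F).toAlgebra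
  let τ : ResidueField Ash →ₐ[ResidueField (Localization.AtPrime p)] ResidueField Bsh := IsSepClosed.lift
  obtain ⟨g, hg, -, -⟩ := strict_lift (p := p) (Rh := Ash) (algebraMap R Bsh) hf τ.toRingHom fun r => by
    have h := τ.commutes (residue _ (algebraMap R (Localization.AtPrime p) r))
    show τ (residue Ash (algebraMap (Localization.AtPrime p) Ash (algebraMap R _ r))) = _
    rw [← hF]
    exact h
  letI : Algebra Ash Bsh := g.toAlgebra
  haveI : IsScalarTower R Ash Bsh := IsScalarTower.of_algebraMap_eq fun r => (RingHom.congr_fun hg r).symm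
  exact encard_minimalPrimes_eq (algebraMap Ash Bsh) fun P hP => isPrime_map R S p q Ash Bsh P

end Groth.Agent.Calg46.SmoothBranch
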