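import Groth.Agent.Calg46.SmoothBranch.Base
import Groth.Agent.S2749
import Groth.Agent.Hensel.Integral
import Groth.Agent.Hensel.TensorStrict
import Groth.Agent.Hensel.IntegralStrict

/-!
Smooth algebras over henselian domains at primes with purely inseparable residue fields are unibranch.
-/

set_option autoImplicit false
set_option linter.style.haveILetI false

noncomputable section

universe u

open TensorProduct IsLocalRing Groth.Agent.Hensel

namespace Groth.Agent.Calg46.SmoothBranch

theorem isGeomUnibranch_of_isIntegrallyClosed (A : Type u) [CommRing A] [IsLocalRing A] [IsDomain A]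
    [IsIntegrallyClosed A] : CAlg2.IsGeomUnibranch A := by
  have hnil : nilradical A = ⊥ := nilradical_eq_zero A
  let e : A ≃+* CAlg2.red A := (RingEquiv.quotientBot A).symm.trans (Ideal.quotEquivOfEq hnil.symm)
  haveI : IsDomain (CAlg2.red A) := e.symm.toMulEquiv.isDomain _
  haveI : IsIntegrallyClosed (CAlg2.red A) := IsIntegrallyClosed.of_equiv e
  have hsurj : Function.Surjective (algebraMap (CAlg2.red A) (CAlg2.normRed A)) := fun x => by
    obtain ⟨y, hy⟩ := IsIntegrallyClosed.isIntegral_iff.1 x.2
    exact ⟨y, Subtype.ext hy⟩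
  haveI : IsLocalRing (CAlg2.red A) := IsLocalRing.of_surjective' _ Ideal.Quotient.mk_surjective
  haveI : IsLocalRing (CAlg2.normRed A) := IsLocalRing.of_surjective' _ hsurj
  refine ⟨⟨inferInstance, inferInstance⟩, fun m' hm' => ?_⟩
  intro x
  obtain ⟨z, rfl⟩ := Ideal.Quotient.mk_surjective x
  obtain ⟨y, rfl⟩ := hsurj z
  obtain ⟨a, rfl⟩ := Ideal.Quotient.mk_surjective y
  exact ⟨0, a, by simp⟩

section Local

variable (R A B : Type u) [CommRing R] [IsLocalRing R] [CommRing A] [IsLocalRing A] [Algebra R A]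
  [IsLocalHom (algebraMap R A)] [Algebra.IsIntegral R A] [CommRing B] [IsLocalRing B] [Algebra R B]
  [IsLocalHom (algebraMap R B)]
  (hpi : ∀ b : B, ∃ (k : ℕ) (r : R),
    b ^ (ringExpChar (ResidueField R)) ^ k - algebraMap R B r ∈ maximalIdeal B)

include hpi in
theorem exists_pow_sub_mem' (x : A ⊗[R] B) :
    ∃ (n : ℕ) (a : A), x ^ (ringExpChar (ResidueField R)) ^ n - a ⊗ₜ[R] (1 : B) ∈ tensorMax R A B := by
  let q := ringExpChar (ResidueField R)
  have : Nontrivial ((A ⊗[R] B) ⧸ tensorMax R A B) := Ideal.Quotient.nontrivial_iff.mpr (tensorMax_ne_top R A B)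
  let ν : ResidueField A →+* (A ⊗[R] B) ⧸ tensorMax R A B :=
    Ideal.Quotient.lift (maximalIdeal A) ((Ideal.Quotient.mk _).comp
      (Algebra.TensorProduct.includeLeft : A →ₐ[R] A ⊗[R] B).toRingHom) fun a ha =>
      Ideal.Quotient.eq_zero_iff_mem.mpr (Ideal.mem_sup_left (Ideal.mem_map_of_mem _ ha))
  have : ExpChar (ResidueField A) q :=
    expChar_of_injective_ringHom (algebraMap (ResidueField R) (ResidueField A)).injective q
  have : ExpChar ((A ⊗[R] B) ⧸ tensorMax R A B) q := expChar_of_injective_ringHom ν.injective q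
  suffices h : ∃ (n : ℕ) (c : ResidueField A), Ideal.Quotient.mk (tensorMax R A B) x ^ q ^ n = ν c by
    obtain ⟨n, c, hc⟩ := h
    obtain ⟨a, rfl⟩ := residue_surjective c
    exact ⟨n, a, Ideal.Quotient.eq.mp (by rw [map_pow]; exact hc)⟩
  induction x with
  | zero => exact ⟨0, 0, by simp⟩
  | tmul a b =>
    obtain ⟨n, r, hm⟩ := hpi b
    refine ⟨n, residue A (a ^ q ^ n * algebraMap R A r), ?_⟩
    show _ = Ideal.Quotient.mk _ ((a ^ q ^ n * algebraMap R A r) ⊗ₜ[R] (1 : B))
    rw [← map_pow, Ideal.Quotient.eq, Algebra.TensorProduct.tmul_pow,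
      show (a ^ q ^ n * algebraMap R A r) ⊗ₜ[R] (1 : B) = (a ^ q ^ n) ⊗ₜ[R] algebraMap R B r by
        rw [mul_comm, ← Algebra.smul_def, smul_tmul, Algebra.algebraMap_eq_smul_one],
      ← tmul_sub, show ((a ^ q ^ n) ⊗ₜ[R] (b ^ q ^ n - algebraMap R B r) : A ⊗[R] B) =
        ((a ^ q ^ n) ⊗ₜ[R] (1 : B)) * ((1 : A) ⊗ₜ[R] (b ^ q ^ n - algebraMap R B r)) by simp]
    exact Ideal.mul_mem_left _ _ (Ideal.mem_sup_right (Ideal.mem_map_of_mem
      (Algebra.TensorProduct.includeRight : B →ₐ[R] A ⊗[R] B).toRingHom hm))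
  | add u v hu hv =>
    obtain ⟨n, c, hc⟩ := hu
    obtain ⟨m, d, hd⟩ := hv
    refine ⟨n + m, c ^ q ^ m + d ^ q ^ n, ?_⟩
    rw [map_add, add_pow_expChar_pow, map_add, map_pow ν, map_pow ν, ← hc, ← hd, ← pow_mul, ← pow_mul,
      ← pow_add, ← pow_add, add_comm m n]

theorem comap_includeLeft_eq (M : Ideal (A ⊗[R] B)) [M.IsMaximal] :
    M.comap (Algebra.TensorProduct.includeLeft : A →ₐ[R] A ⊗[R] B).toRingHom = maximalIdeal A :=
  ((maximalIdeal.isMaximal A).eq_of_le (Ideal.IsPrime.comap _).ne_top
    (Ideal.map_le_iff_le_comap.1 (le_sup_left.trans (tensorMax_le R A B M)))).symm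

include hpi in
theorem isLocalRing_tensor' : IsLocalRing (A ⊗[R] B) := by
  have : Nontrivial (A ⊗[R] B) := ⟨0, 1, fun h => tensorMax_ne_top R A B
    ((Ideal.eq_top_iff_one _).mpr (h ▸ zero_mem _))⟩
  obtain ⟨M₀, hM₀⟩ := Ideal.exists_maximal (A ⊗[R] B)
  refine IsLocalRing.of_unique_max_ideal ⟨M₀, hM₀, fun M hM => ?_⟩
  have key : ∀ (M₁ M₂ : Ideal (A ⊗[R] B)), M₁.IsMaximal → M₂.IsMaximal → M₁ ≤ M₂ := by
    intro M₁ M₂ h₁ h₂ x hx
    obtain ⟨n, a, ha⟩ := exists_pow_sub_mem' R A B hpi x
    have hpos : 0 < ringExpChar (ResidueField R) ^ n := expChar_pow_pos (ResidueField R) _ n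
    have ha₁ : a ∈ M₁.comap (Algebra.TensorProduct.includeLeft : A →ₐ[R] A ⊗[R] B).toRingHom := by
      have := M₁.sub_mem (M₁.pow_mem_of_mem hx _ hpos) (tensorMax_le R A B M₁ ha)
      rwa [sub_sub_cancel] at this
    have ha₂ : a ⊗ₜ[R] (1 : B) ∈ M₂ := by
      rw [comap_includeLeft_eq R A B M₁, ← comap_includeLeft_eq R A B M₂] at ha₁
      exact ha₁
    refine h₂.isPrime.mem_of_pow_mem (ringExpChar (ResidueField R) ^ n) ?_
    have := M₂.add_mem (tensorMax_le R A B M₂ ha) ha₂
    rwa [sub_add_cancel] at this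
  exact le_antisymm (key M M₀ hM hM₀) (key M₀ M hM₀ hM)

end Local

theorem isLocalization_atPrime_of_le {X W : Type u} [CommRing X] [CommRing W] [IsLocalRing W] [Algebra X W]
    (M : Submonoid X) [IsLocalization M W] :
    IsLocalization ((maximalIdeal W).comap (algebraMap X W)).primeCompl W :=
  IsLocalization.of_le M _ (fun x hx h => h (IsLocalization.map_units W (⟨x, hx⟩ : M)))
    fun x hx => by
      by_contra h
      exact hx h

theorem unibranch_smooth_aux (D D' X : Type u) [CommRing D] [IsLocalRing D]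
    [CommRing D'] [IsDomain D'] [IsLocalRing D'] [IsIntegrallyClosed D'] [Algebra D D'] [Algebra.IsIntegral D D']
    [IsLocalHom (algebraMap D D')] (hinj : Function.Injective (algebraMap D D'))
    [CommRing X] [Algebra D X] [Algebra.Smooth D X] (n : Ideal X) [n.IsPrime]
    (hn : n.comap (algebraMap D X) = maximalIdeal D)
    (hpi : ∀ t : Localization.AtPrime n, ∃ (k : ℕ) (r : D),
      t ^ (ringExpChar (ResidueField D)) ^ k - algebraMap D _ r ∈ maximalIdeal (Localization.AtPrime n)) :
    IsReduced (Localization.AtPrime n) ∧ CAlg2.IsUnibranch (Localization.AtPrime n) := by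
  haveI : IsLocalHom (algebraMap D (Localization.AtPrime n)) := by
    have h40 := (local_hom_TFAE (algebraMap D (Localization.AtPrime n))).out 4 0
    refine h40.1 ?_
    rw [IsScalarTower.algebraMap_eq D X (Localization.AtPrime n), ← Ideal.comap_comap, ← hn]
    exact congrArg _ (IsLocalization.AtPrime.under_maximalIdeal (Localization.AtPrime n) n)
  haveI : Module.Flat X (Localization.AtPrime n) := IsLocalization.flat _ n.primeCompl
  haveI : Module.Flat D (Localization.AtPrime n) := Module.Flat.trans D X _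
  let W := D' ⊗[D] Localization.AtPrime n
  haveI : IsLocalRing W := isLocalRing_tensor' D D' (Localization.AtPrime n) hpi
  letI algXW : Algebra (D' ⊗[D] X) W :=
    (Algebra.TensorProduct.map (AlgHom.id D' D') (IsScalarTower.toAlgHom D X (Localization.AtPrime n))).toRingHom.toAlgebra
  haveI : IsScalarTower D' (D' ⊗[D] X) W := IsScalarTower.of_algebraMap_eq (R := D') (S := D' ⊗[D] X) (A := W) fun d => by
    rw [RingHom.algebraMap_toAlgebra]
    simp [W]
  haveI : IsLocalization (n.primeCompl.map (Algebra.TensorProduct.includeRight (R := D) (A := D'))) W :=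
    IsLocalization.tensorProduct_tensorProduct_right D D' n.primeCompl (Localization.AtPrime n) (RingHom.ext fun x => by
      rw [RingHom.algebraMap_toAlgebra]
      simp)
  let n' : Ideal (D' ⊗[D] X) := (maximalIdeal W).comap (algebraMap (D' ⊗[D] X) W)
  have hn' : n'.comap (algebraMap D' (D' ⊗[D] X)) = maximalIdeal D' := by
    show Ideal.comap (algebraMap D' (D' ⊗[D] X)) (Ideal.comap (algebraMap (D' ⊗[D] X) W) (maximalIdeal W)) = _
    rw [Ideal.comap_comap, ← IsScalarTower.algebraMap_eq]
    exact comap_includeLeft_eq D D' (Localization.AtPrime n) (maximalIdeal W)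
  haveI : IsLocalization n'.primeCompl W :=
    isLocalization_atPrime_of_le (n.primeCompl.map (Algebra.TensorProduct.includeRight (R := D) (A := D') (B := X)))
  obtain ⟨hu, hd⟩ := domain_geomUnibranch D X D' (isGeomUnibranch_of_isIntegrallyClosed D') n' hn'
  haveI := hd inferInstance
  let θ : Localization.AtPrime n' ≃ₐ[D' ⊗[D] X] W := IsLocalization.algEquiv n'.primeCompl _ _
  haveI : IsDomain W := θ.toRingEquiv.symm.toMulEquiv.isDomain _
  have huW : CAlg2.IsUnibranch W := (UnibEtale.isGeomUnibranch_of_ringEquiv θ.toRingEquiv hu).1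
  letI algTW : Algebra (Localization.AtPrime n) W := Algebra.TensorProduct.rightAlgebra
  haveI : Algebra.IsIntegral (Localization.AtPrime n) W := ⟨fun x => isIntegral_includeRight D D' _ x⟩
  haveI : IsLocalHom (algebraMap (Localization.AtPrime n) W) := isLocalHom_of_isIntegral_local _ W
  have hTW : Function.Injective (algebraMap (Localization.AtPrime n) W) :=
    Algebra.TensorProduct.includeRight_injective (A := D') (B := Localization.AtPrime n) hinj
  let E := LocalHenz (Localization.AtPrime n)
  haveI : _root_.Hensel.IsHenselization (Localization.AtPrime n) E := isHenselization_localHenz _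
  obtain ⟨_, _, hh⟩ := exists_isHenselization_tensorProduct (Localization.AtPrime n) W E
  haveI := hh
  haveI : IsDomain (W ⊗[Localization.AtPrime n] E) :=
    (S2749.result W (W ⊗[Localization.AtPrime n] E)).1 ⟨inferInstance, huW⟩
  haveI := faithfullyFlat_of_isHenselization (Localization.AtPrime n) E
  have hE : Function.Injective
      (Algebra.TensorProduct.includeRight : E →ₐ[Localization.AtPrime n] W ⊗[Localization.AtPrime n] E) :=
    Algebra.TensorProduct.includeRight_injective hTW
  haveI : IsDomain E := hE.isDomain _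
  exact (S2749.result (Localization.AtPrime n) E).2 inferInstance

/-- Smooth algebras over henselian domains: unibranch at purely inseparable residue extensions. -/
theorem unibranch_smooth_henselian (D X : Type u) [CommRing D] [IsDomain D] [HenselianLocalRing D]
    [CommRing X] [Algebra D X] [Algebra.Smooth D X] (n : Ideal X) [n.IsPrime]
    (hn : n.comap (algebraMap D X) = maximalIdeal D)
    (hpi : ∀ t : Localization.AtPrime n, ∃ (k : ℕ) (r : D),
      t ^ (ringExpChar (ResidueField D)) ^ k - algebraMap D _ r ∈ maximalIdeal (Localization.AtPrime n)) :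
    IsReduced (Localization.AtPrime n) ∧ CAlg2.IsUnibranch (Localization.AtPrime n) := by
  have hinj : Function.Injective (algebraMap D (integralClosure D (FractionRing D))) := fun a b h =>
    IsFractionRing.injective D (FractionRing D) (congrArg Subtype.val h)
  haveI : FaithfulSMul D (integralClosure D (FractionRing D)) := (faithfulSMul_iff_algebraMap_injective _ _).2 hinj
  haveI : IsLocalRing (integralClosure D (FractionRing D)) :=
    isLocalRing_of_isIntegral_domain (A := D) (B := integralClosure D (FractionRing D))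
  haveI : IsLocalHom (algebraMap D (integralClosure D (FractionRing D))) := isLocalHom_of_isIntegral_local D _
  haveI : IsIntegrallyClosed (integralClosure D (FractionRing D)) :=
    integralClosure.isIntegrallyClosedOfFiniteExtension (FractionRing D)
  exact unibranch_smooth_aux D (integralClosure D (FractionRing D)) X hinj n hn hpi

end Groth.Agent.Calg46.SmoothBranch
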