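import Groth.Agent.Calg46.SmoothBranch.HensPrime
import Groth.Agent.Hensel.TensorHenzFinite

/-!
Branches along smooth maps with purely inseparable residue field extensions.
-/

set_option autoImplicit false
set_option linter.style.haveILetI false

noncomputable section

universe u

open TensorProduct IsLocalRing Groth.Agent.Hensel

namespace Groth.Agent.Calg46.SmoothBranch

theorem exists_pow_sub_mem_residue (R S : Type u) [CommRing R] [CommRing S] [Algebra R S]
    (p : Ideal R) [p.IsPrime] (q : Ideal S) [q.IsPrime] [q.LiesOver p]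
    (hpi : @IsPurelyInseparable p.ResidueField q.ResidueField _ _
      (Ideal.ResidueField.mapₐ p q (Algebra.ofId R S) (q.over_def p)).toRingHom.toAlgebra)
    (Ah : Type u) [CommRing Ah] [IsLocalRing Ah] [Algebra (Localization.AtPrime p) Ah]
    [IsLocalHom (algebraMap (Localization.AtPrime p) Ah)] [Algebra R Ah] [IsScalarTower R (Localization.AtPrime p) Ah]
    (Bh : Type u) [CommRing Bh] [IsLocalRing Bh] [Algebra (Localization.AtPrime q) Bh]
    [IsLocalHom (algebraMap (Localization.AtPrime q) Bh)] [Algebra S Bh] [IsScalarTower S (Localization.AtPrime q) Bh]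
    [Algebra R Bh] [IsScalarTower R S Bh] [Algebra Ah Bh] [IsScalarTower R Ah Bh]
    [_root_.Hensel.IsHenselization (Localization.AtPrime q) Bh] (y : Bh) :
    ∃ (k : ℕ) (r : Ah), y ^ (ringExpChar (ResidueField Ah)) ^ k - algebraMap Ah Bh r ∈ maximalIdeal Bh := by
  letI algk : Algebra p.ResidueField q.ResidueField :=
    (Ideal.ResidueField.mapₐ p q (Algebra.ofId R S) (q.over_def p)).toRingHom.toAlgebra
  haveI : IsPurelyInseparable p.ResidueField q.ResidueField := hpi
  let L : Localization.AtPrime p →+* Localization.AtPrime q :=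
    Localization.localRingHom p q (algebraMap R S) (q.over_def p)
  have hL : (algebraMap (Localization.AtPrime q) Bh).comp L =
      (algebraMap Ah Bh).comp (algebraMap (Localization.AtPrime p) Ah) :=
    IsLocalization.ringHom_ext p.primeCompl (RingHom.ext fun r => by
      show algebraMap (Localization.AtPrime q) Bh (L (algebraMap R _ r)) =
        algebraMap Ah Bh (algebraMap (Localization.AtPrime p) Ah (algebraMap R _ r))
      rw [Localization.localRingHom_to_map, ← IsScalarTower.algebraMap_apply S (Localization.AtPrime q) Bh,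
        ← IsScalarTower.algebraMap_apply R S Bh, ← IsScalarTower.algebraMap_apply R (Localization.AtPrime p) Ah,
        ← IsScalarTower.algebraMap_apply R Ah Bh])
  obtain ⟨x, hx⟩ := (bijective_residueFieldMap_of_isHenselization (Localization.AtPrime q) Bh).2 (residue Bh y)
  haveI : ExpChar p.ResidueField (ringExpChar (ResidueField Ah)) :=
    (ResidueField.map (algebraMap (Localization.AtPrime p) Ah)).expChar (RingHom.injective _) _
  obtain ⟨k, c, hc⟩ := IsPurelyInseparable.pow_mem p.ResidueField (ringExpChar (ResidueField Ah))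
    (show q.ResidueField from x)
  obtain ⟨z, rfl⟩ := residue_surjective c
  refine ⟨k, algebraMap (Localization.AtPrime p) Ah z, ?_⟩
  have hc' : residue (Localization.AtPrime q) (L z) = x ^ (ringExpChar (ResidueField Ah)) ^ k := hc
  rw [← residue_eq_zero_iff, map_sub, map_pow, ← hx, ← map_pow, ← hc', ← RingHom.comp_apply (algebraMap Ah Bh),
    ← hL, ResidueField.map_residue]
  exact sub_self _

/-- Henselizations along a smooth map with purely inseparable residue extension have equally many minimal primes. -/
theorem encard_minimalPrimes_henz (R S : Type u) [CommRing R] [CommRing S] [Algebra R S] [Algebra.Smooth R S]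
    (p : Ideal R) [p.IsPrime] (q : Ideal S) [q.IsPrime] [q.LiesOver p]
    (hpi : @IsPurelyInseparable p.ResidueField q.ResidueField _ _
      (Ideal.ResidueField.mapₐ p q (Algebra.ofId R S) (q.over_def p)).toRingHom.toAlgebra)
    (Ah : Type u) [CommRing Ah] [IsLocalRing Ah] [Algebra (Localization.AtPrime p) Ah]
    [IsLocalHom (algebraMap (Localization.AtPrime p) Ah)]
    [_root_.Hensel.IsHenselization (Localization.AtPrime p) Ah]
    (Bh : Type u) [CommRing Bh] [IsLocalRing Bh] [Algebra (Localization.AtPrime q) Bh]
    [IsLocalHom (algebraMap (Localization.AtPrime q) Bh)]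
    [_root_.Hensel.IsHenselization (Localization.AtPrime q) Bh] :
    (minimalPrimes Ah).encard = (minimalPrimes Bh).encard := by
  letI : Algebra R Ah := ((algebraMap (Localization.AtPrime p) Ah).comp (algebraMap R _)).toAlgebra
  haveI : IsScalarTower R (Localization.AtPrime p) Ah := IsScalarTower.of_algebraMap_eq fun _ => rfl
  letI : Algebra S Bh := ((algebraMap (Localization.AtPrime q) Bh).comp (algebraMap S _)).toAlgebra
  haveI : IsScalarTower S (Localization.AtPrime q) Bh := IsScalarTower.of_algebraMap_eq fun _ => rfl
  letI : Algebra R Bh := ((algebraMap S Bh).comp (algebraMap R S)).toAlgebra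
  haveI : IsScalarTower R S Bh := IsScalarTower.of_algebraMap_eq fun _ => rfl
  haveI : HenselianLocalRing Bh := _root_.Hensel.IsHenselization.henselian (R := Localization.AtPrime q)
  haveI : HenselianLocalRing Ah := _root_.Hensel.IsHenselization.henselian (R := Localization.AtPrime p)
  have hf : (maximalIdeal Bh).comap (algebraMap R Bh) = p := by
    rw [IsScalarTower.algebraMap_eq R S Bh, ← Ideal.comap_comap, comap_algebraMap_atPrime S q Bh]
    exact (q.over_def p).symm
  obtain ⟨g, hg, -⟩ := henz_lift (p := p) (Rh := Ah) (algebraMap R Bh) hf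
  letI : Algebra Ah Bh := g.toAlgebra
  haveI : IsScalarTower R Ah Bh := IsScalarTower.of_algebraMap_eq fun r => (RingHom.congr_fun hg r).symm
  refine encard_minimalPrimes_eq (algebraMap Ah Bh) fun P hP => ?_
  haveI := isLocalHom_Rh_Sh R S p q Ah Bh (map_maximalIdeal_of_isHenselization _ Ah)
  have hlo := liesOver_tensorPrime R S p q Ah Bh
  let E := LocalHenz (Localization.AtPrime (tensorPrime R S Ah Bh))
  haveI : IsLocalHom (algebraMap (Localization.AtPrime (tensorPrime R S Ah Bh)) E) := by
    unfold E LocalHenz; exact isLocalHom_henz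
  haveI : _root_.Hensel.IsHenselization (Localization.AtPrime (tensorPrime R S Ah Bh)) E :=
    isHenselization_localHenz _
  obtain ⟨e, he⟩ := henz_tensor R S p q Ah Bh E
  let ι : Ah →+* E := (toE R S Ah Bh E).comp (algebraMap Ah (Ah ⊗[R] S))
  have hc : e.toRingHom.comp ι = algebraMap Ah Bh := RingHom.ext fun a => by
    show e (toE R S Ah Bh E (algebraMap Ah _ a)) = _
    rw [he, Algebra.TensorProduct.algebraMap_apply, Algebra.TensorProduct.lift_tmul, map_one, mul_one]
    rfl
  have hpiT : ∀ t : Localization.AtPrime (tensorPrime R S Ah Bh), ∃ (k : ℕ) (r : Ah),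
      t ^ (ringExpChar (ResidueField Ah)) ^ k - algebraMap Ah _ r ∈
        maximalIdeal (Localization.AtPrime (tensorPrime R S Ah Bh)) := fun t => by
    obtain ⟨k, r, hr⟩ := exists_pow_sub_mem_residue R S p q hpi Ah Bh
      (e (algebraMap (Localization.AtPrime (tensorPrime R S Ah Bh)) E t))
    refine ⟨k, r, fun hu => hr ?_⟩
    have h2 := (hu.map (algebraMap (Localization.AtPrime (tensorPrime R S Ah Bh)) E)).map e.toRingHom
    rw [map_sub, map_sub, map_pow, map_pow] at h2
    have h3 : algebraMap Ah Bh r = e.toRingHom (algebraMap (Localization.AtPrime (tensorPrime R S Ah Bh)) E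
        (algebraMap Ah (Localization.AtPrime (tensorPrime R S Ah Bh)) r)) := by
      rw [← hc, IsScalarTower.algebraMap_apply Ah (Ah ⊗[R] S) (Localization.AtPrime (tensorPrime R S Ah Bh))]
      rfl
    rw [h3]
    exact h2
  obtain ⟨h1, h2⟩ := isPrime_map_of_henselian R S Ah (tensorPrime R S Ah Bh) hlo.over.symm hpiT E ι
    (fun _ => rfl) P
  rw [← hc, ← Ideal.map_map]
  haveI := h1
  refine ⟨Ideal.map_isPrime_of_equiv e, ?_⟩
  rw [← Ideal.comap_comap]
  show ((((P.map ι).map e.toRingHom).comap e.toRingHom).comap ι) = P
  rw [Ideal.comap_map_of_bijective e.toRingHom e.bijective, h2]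

end Groth.Agent.Calg46.SmoothBranch
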