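import Groth.Agent.Calg46.SmoothBranch.Hens
import Groth.Agent.Calg46.SmoothBranch.Geom
import Groth.Agent.S2749
import Groth.Agent.Hensel.Integral
import Groth.Agent.AnLocal.Henselian

/-!
Branches are preserved by smooth maps with purely inseparable residue extension.
-/

set_option autoImplicit false
set_option linter.style.haveILetI false

noncomputable section

universe u

open TensorProduct IsLocalRing Groth.Agent.Hensel

namespace Groth.Agent.Calg46.SmoothBranch

theorem isPrime_map_ker_henz (A B E : Type u) [CommRing A] [IsLocalRing A] [CommRing B] [IsLocalRing B]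
    [CommRing E] [IsLocalRing E] [Algebra A E] [IsLocalHom (algebraMap A E)] [_root_.Hensel.IsHenselization A E]
    (πl : A →+* B) (hπl : Function.Surjective πl) (hr : IsReduced B) (hu : CAlg2.IsUnibranch B) :
    ((RingHom.ker πl).map (algebraMap A E)).IsPrime := by
  letI : Algebra A B := πl.toAlgebra
  haveI : Algebra.IsIntegral A B := ⟨fun b => by obtain ⟨a, rfl⟩ := hπl b; exact isIntegral_algebraMap⟩
  haveI : IsLocalHom (algebraMap A B) := isLocalHom_of_isIntegral_local A B
  obtain ⟨_, _, hh⟩ := exists_isHenselization_tensorProduct A B E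
  haveI := hh
  haveI : IsDomain (B ⊗[A] E) := (S2749.result B (B ⊗[A] E)).1 ⟨hr, hu⟩
  let m : A ⊗[A] E →ₐ[A] B ⊗[A] E := Algebra.TensorProduct.map (Algebra.ofId A B) (AlgHom.id A E)
  have hm : RingHom.ker m = (RingHom.ker (Algebra.ofId A B)).map
      (Algebra.TensorProduct.includeLeft : A →ₐ[A] A ⊗[A] E) :=
    Algebra.TensorProduct.rTensor_ker (C := E) (Algebra.ofId A B) hπl
  let e : A ⊗[A] E ≃ₐ[A] E := Algebra.TensorProduct.lid A E
  have hP : (RingHom.ker m).IsPrime := RingHom.ker_isPrime m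
  have : (RingHom.ker πl).map (algebraMap A E) = (RingHom.ker m).map e.toRingEquiv := by
    rw [hm]
    show (RingHom.ker πl).map (algebraMap A E) = Ideal.map e.toRingEquiv.toRingHom (Ideal.map
      (Algebra.TensorProduct.includeLeft : A →ₐ[A] A ⊗[A] E).toRingHom (RingHom.ker πl))
    rw [Ideal.map_map]
    congr 1
    exact RingHom.ext fun a => by simp [e, Algebra.smul_def]
  rw [this]
  exact Ideal.map_isPrime_of_equiv e.toRingEquiv

variable (R S : Type u) [CommRing R] [CommRing S] [Algebra R S] [Algebra.Smooth R S]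

/-- The henselization of `(Ah ⊗ S)_n`: extensions of primes of `Ah` are prime. -/
theorem isPrime_map_of_henselian (Ah : Type u) [CommRing Ah] [HenselianLocalRing Ah] [Algebra R Ah]
    (n : Ideal (Ah ⊗[R] S)) [n.IsPrime] (hn : n.comap (algebraMap Ah (Ah ⊗[R] S)) = maximalIdeal Ah)
    (hpi : ∀ t : Localization.AtPrime n, ∃ (k : ℕ) (r : Ah),
      t ^ (ringExpChar (ResidueField Ah)) ^ k - algebraMap Ah _ r ∈ maximalIdeal (Localization.AtPrime n))
    (E : Type u) [CommRing E] [IsLocalRing E] [Algebra (Localization.AtPrime n) E]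
    [IsLocalHom (algebraMap (Localization.AtPrime n) E)] [_root_.Hensel.IsHenselization (Localization.AtPrime n) E]
    (ι : Ah →+* E)
    (hι : ∀ a, ι a = algebraMap (Localization.AtPrime n) E
      (algebraMap (Ah ⊗[R] S) (Localization.AtPrime n) (algebraMap Ah (Ah ⊗[R] S) a)))
    (P : Ideal Ah) [hP : P.IsPrime] :
    (P.map ι).IsPrime ∧ (P.map ι).comap ι = P := by
  haveI : IsLocalRing (Ah ⧸ P) := IsLocalRing.of_surjective' (Ideal.Quotient.mk P) Ideal.Quotient.mk_surjective
  haveI hHQ : HenselianLocalRing (Ah ⧸ P) :=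
    AnLocal.henselianLocalRing_of_surjective' (Ideal.Quotient.mk P) Ideal.Quotient.mk_surjective
  haveI : IsLocalHom (Ideal.Quotient.mk P) := Ideal.Quotient.mk_surjective.isLocalHom _
  let π : Ah ⊗[R] S →ₐ[R] (Ah ⧸ P) ⊗[R] S := Algebra.TensorProduct.map (Ideal.Quotient.mkₐ R P) (AlgHom.id R S)
  have hπ : Function.Surjective π :=
    Algebra.TensorProduct.map_surjective _ _ Ideal.Quotient.mk_surjective Function.surjective_id
  have hkerπ : RingHom.ker π = P.map (algebraMap Ah (Ah ⊗[R] S)) := by
    have h := Algebra.TensorProduct.rTensor_ker (R := R) (C := S) (Ideal.Quotient.mkₐ R P) (Ideal.Quotient.mkₐ_surjective R P)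
    rw [show RingHom.ker (Ideal.Quotient.mkₐ R P) = P from Ideal.Quotient.mkₐ_ker R P] at h
    exact h
  have hPn : RingHom.ker π ≤ n := by
    rw [hkerπ, Ideal.map_le_iff_le_comap, hn]
    exact le_maximalIdeal hP.ne_top
  let n' : Ideal ((Ah ⧸ P) ⊗[R] S) := n.map π.toRingHom
  haveI : n'.IsPrime := Ideal.map_isPrime_of_surjective hπ hPn
  have hn' : n = n'.comap π.toRingHom := by
    show n = Ideal.comap π.toRingHom (Ideal.map π.toRingHom n)
    rw [Ideal.comap_map_of_surjective' π.toRingHom hπ]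
    exact (sup_eq_left.2 hPn).symm
  have hc : π.toRingHom.comp (algebraMap Ah (Ah ⊗[R] S)) =
      (algebraMap (Ah ⧸ P) ((Ah ⧸ P) ⊗[R] S)).comp (Ideal.Quotient.mk P) := RingHom.ext fun a => by
    simp [π, Algebra.TensorProduct.algebraMap_apply]
  have hn'B : n'.comap (algebraMap (Ah ⧸ P) ((Ah ⧸ P) ⊗[R] S)) = maximalIdeal (Ah ⧸ P) := by
    apply Ideal.comap_injective_of_surjective _ (Ideal.Quotient.mk_surjective (I := P))
    rw [Ideal.comap_comap, ← hc, ← Ideal.comap_comap, ← hn', hn]
    have h04 := (local_hom_TFAE (Ideal.Quotient.mk P)).out 0 4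
    exact (h04.1 inferInstance).symm
  obtain ⟨πl, hπl, hkerl, hπlc⟩ : ∃ πl : Localization.AtPrime n →+* Localization.AtPrime n', Function.Surjective πl ∧
      RingHom.ker πl = (RingHom.ker π.toRingHom).map (algebraMap _ (Localization.AtPrime n)) ∧
      ∀ x, πl (algebraMap _ _ x) = algebraMap _ _ (π x) :=
    ⟨_, (exists_mk'_preimage π.toRingHom hπ n n' hn').1, (exists_mk'_preimage π.toRingHom hπ n n' hn').2,
      fun x => Localization.localRingHom_to_map _ _ _ _ x⟩
  haveI := @IsLocalHom.of_surjective (Localization.AtPrime n) (Localization.AtPrime n') _ _ _ _ πl hπl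
  have hpi' : ∀ t : Localization.AtPrime n', ∃ (k : ℕ) (r : Ah ⧸ P),
      t ^ (ringExpChar (ResidueField (Ah ⧸ P))) ^ k - algebraMap (Ah ⧸ P) _ r ∈
        maximalIdeal (Localization.AtPrime n') := fun t => by
    obtain ⟨t, rfl⟩ := hπl t
    obtain ⟨k, r, hr⟩ := hpi t
    refine ⟨k, Ideal.Quotient.mk P r, ?_⟩
    haveI : ExpChar (ResidueField (Ah ⧸ P)) (ringExpChar (ResidueField Ah)) :=
      expChar_of_injective_ringHom (ResidueField.map (Ideal.Quotient.mk P)).injective _
    rw [ringExpChar.eq (ResidueField (Ah ⧸ P)) (ringExpChar (ResidueField Ah))]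
    have h2 := map_nonunit πl _ hr
    rw [map_sub, map_pow] at h2
    rw [IsScalarTower.algebraMap_apply (Ah ⧸ P) ((Ah ⧸ P) ⊗[R] S) (Localization.AtPrime n'),
      ← RingHom.comp_apply (algebraMap (Ah ⧸ P) ((Ah ⧸ P) ⊗[R] S)), ← hc]
    rw [IsScalarTower.algebraMap_apply Ah (Ah ⊗[R] S) (Localization.AtPrime n), hπlc] at h2
    exact h2
  obtain ⟨hr, hu⟩ := unibranch_smooth_henselian (Ah ⧸ P) ((Ah ⧸ P) ⊗[R] S) n' hn'B hpi'
  let PE : Ideal E := P.map ι
  have hPE : PE = (RingHom.ker πl).map (algebraMap (Localization.AtPrime n) E) := by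
    rw [hkerl, show RingHom.ker π.toRingHom = _ from hkerπ, Ideal.map_map, Ideal.map_map]
    exact congrArg (fun f => P.map f) (RingHom.ext hι)
  have hprime : PE.IsPrime := by
    rw [hPE]
    have h1 := @isPrime_map_ker_henz (Localization.AtPrime n) (Localization.AtPrime n') E
    have h2 := h1 πl
    have h3 := h2 hπl hr hu
    exact h3
  refine ⟨hprime, ?_⟩
  letI algι : Algebra Ah E := ι.toAlgebra
  haveI : IsScalarTower Ah (Localization.AtPrime n) E := IsScalarTower.of_algebraMap_eq fun a => by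
    show ι a = _
    rw [hι, ← IsScalarTower.algebraMap_apply Ah (Ah ⊗[R] S) (Localization.AtPrime n)]
  haveI : Module.Flat (Ah ⊗[R] S) (Localization.AtPrime n) := IsLocalization.flat _ n.primeCompl
  haveI : Module.Flat Ah (Localization.AtPrime n) := Module.Flat.trans Ah (Ah ⊗[R] S) (Localization.AtPrime n)
  haveI := faithfullyFlat_of_isHenselization (Localization.AtPrime n) E
  haveI : Module.Flat Ah E := Module.Flat.trans Ah (Localization.AtPrime n) E
  have h04 := (local_hom_TFAE (algebraMap (Localization.AtPrime n) E)).out 0 4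
  have hloc := h04.1 inferInstance
  have h40 := (local_hom_TFAE (algebraMap Ah E)).out 4 0
  haveI : IsLocalHom (algebraMap Ah E) := h40.1 (by
    rw [IsScalarTower.algebraMap_eq Ah (Localization.AtPrime n) E, ← Ideal.comap_comap, hloc,
      IsScalarTower.algebraMap_eq Ah (Ah ⊗[R] S) (Localization.AtPrime n), ← Ideal.comap_comap,
      ← hn]
    exact congrArg _ (IsLocalization.AtPrime.under_maximalIdeal (Localization.AtPrime n) n))
  haveI : Module.FaithfullyFlat Ah E := Module.FaithfullyFlat.of_flat_of_isLocalHom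
  exact Ideal.comap_map_eq_self_of_faithfullyFlat (B := E) P

end Groth.Agent.Calg46.SmoothBranch
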